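import Cfsg.Agent.MK.Two.Box_m3
import Cfsg.Agent.MQ.A.Glob.Main
import Cfsg.Agent.MQ.Loc.Om
import Cfsg.Agent.FastGrp
import Cfsg.Agent.Prune
set_option linter.all false
prune_inst 0x7ffdfdfb39a8efffffff7fbffed3dffff5a9efffeffffd7bffe471bf2fdf23000fc76b87edf012ff1f77e3b414b87813ff7eefffe863dc7ffffd5ff41fffee4fe5f6b50851969c340fbc4fff83f07f8e7f3fffffffffffffffffffffffffffbeffffffffffff
open scoped Cfsg.Agent.FastGrp

-- part: MO/Df/Defs
section
/-!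
# MO, defining characteristic: the interface for finite groups (helper84, from `MK/Two/Defs`)

The version of `MK/Two/Defs.lean` for an arbitrary prime `p`.

* `Bo p U T B D` : a Borel subgroup `B = U T` with coordinates `D`;
* `Fr p ι U T B D Φ R` : `X` is normal in `K = X T`, `Φ` is a group of automorphisms of `K`, `R` relates the characters of
  `p'`-degree of `K` and `B`;
* `CF p Λ Ω` : an equivariant bijection for all characters of `p'`-degree with the extension property;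
* the boxes `BorBox`, `AdjBox`, `SpBox`, `DescBox`; `GdA`.
-/

set_option autoImplicit false
set_option maxHeartbeats 400000

namespace Cfsg.Agent.MO.Df

open Cfsg Subgroup Cfsg.Agent.H40.OC Cfsg.Agent.H672
open Cfsg.Agent.MK (In Nm St rs)
open Cfsg.Agent.MK.Two (ip Js TJ fl IsL ExtF)

section fin

variable (p : ℕ) {X K I : Type} [Group X] [Group K]

/-- a Borel subgroup -/
structure Bo (U T B : Subgroup K) (D : I → Subgroup K) : Prop where
  sys : Sys U T D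
  two : IsPGroup p U
  odd : ¬ p ∣ Nat.card T
  comm : ∀ s ∈ T, ∀ t ∈ T, s * t = t * s
  mem : ∀ b, b ∈ B ↔ ∃ u ∈ U, ∃ t ∈ T, b = u * t
  hn : ∀ f : U →* ℂˣ, ∀ u : U, (∀ i, (u : K) ∈ D i) → f u = 1
  lam : ∃ lam, Lam U D lam

variable {p} in
theorem Bo.uB {U T B : Subgroup K} {D : I → Subgroup K} (h : Bo p U T B D) : U ≤ B :=
  fun u hu => (h.mem u).2 ⟨u, hu, 1, one_mem _, (mul_one u).symm⟩

variable {p} in
theorem Bo.tB {U T B : Subgroup K} {D : I → Subgroup K} (h : Bo p U T B D) : T ≤ B :=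
  fun t ht => (h.mem t).2 ⟨1, one_mem _, t, ht, (one_mul t).symm⟩

/-- the frame -/
structure Fr (ι : X →* K) (U T B : Subgroup K) (D : I → Subgroup K) (Φ : Subgroup (MulAut K))
    (R : (K → ℂ) → (B → ℂ) → Prop) : Prop where
  bo : Bo p U T B D
  inj : Function.Injective ι
  nrm : ι.range.Normal
  uX : U ≤ ι.range
  spl : ∀ k, ∃ x, ∃ t ∈ T, k = ι x * t
  ti : ∀ u ∈ U, (∀ i, u ∉ D i) → ∀ g, g⁻¹ * u * g ∈ U → g ∈ B
  mr : ∀ [Fintype U] (χ : K → ℂ), PI p K χ → Complex.normSq (mr U D χ) = 1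
  cen : ∀ t ∈ TJ U T D Set.univ, t ∈ center K
  zX : ∀ z ∈ center X, ι z ∈ center K
  cX : ∀ b ∈ B, (∀ x, b * ι x = ι x * b) → b ∈ center K
  φX : ∀ φ ∈ Φ, ∀ x, φ (ι x) ∈ ι.range
  φU : ∀ φ ∈ Φ, ∀ u ∈ U, φ u ∈ U
  φT : ∀ φ ∈ Φ, ∀ t ∈ T, φ t ∈ T
  φD : ∀ φ ∈ Φ, ∃ σ : Equiv.Perm I, ∀ i, ∀ u ∈ U, φ u ∈ D (σ i) ↔ u ∈ D i
  fa : ∀ φ ∈ Φ, ∀ b ∈ B, (∀ x, φ (ι x) = b * ι x * b⁻¹) → φ = 1
  ex : ∀ ψ, PI p B ψ → ∃ χ, PI p K χ ∧ R χ ψ
  un : ∀ χ ψ ψ', PI p K χ → PI p B ψ → PI p B ψ' → R χ ψ → R χ ψ' → ψ = ψ'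
  aut : ∀ φ ∈ Φ, ∀ χ ψ ψ', PI p K χ → PI p B ψ → R χ ψ → (∀ b b' : B, (b' : K) = φ b → ψ' b = ψ b') →
    R (fun g => χ (φ g)) ψ'
  tw : ∀ β : K →* ℂˣ, (∀ x, β (ι x) = 1) → ∀ χ ψ, PI p K χ → PI p B ψ → R χ ψ →
    R (fun g => β g * χ g) fun b => β b * ψ b
  cz : ∀ χ ψ, PI p K χ → PI p B ψ → R χ ψ → ∀ z : B, (z : K) ∈ center K → χ z * ψ 1 = ψ z * χ 1

/-- `CD` for all characters of `p'`-degree -/
structure CF (Λ : Subgroup (MulAut X)) (Ω : (X → ℂ) → In Λ → ℂ) : Prop where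
  bij : Set.BijOn Ω {θ | PI p X θ} {ψ | PI p (In Λ) ψ}
  cen : ∀ θ, PI p X θ → ∀ z : In Λ, (z : X) ∈ center X → θ z * Ω θ 1 = Ω θ z * θ 1
  eqv : ∀ θ, PI p X θ → ∀ (α : Λ) (y : In Λ), Ω (fun x => θ (α.1 x)) y = Ω θ (rs Λ α y)
  ext : ∀ θ, PI p X θ → ExtF Λ (St Λ θ) θ (Ω θ)

end fin

variable (p : ℕ)

/-- **the characters of the Borel subgroup** -/
def BorBox : Prop :=
  ∀ {K I : Type} [Group K] [Finite K] [Fintype I] {U T B : Subgroup K} {D : I → Subgroup K} (h : Bo p U T B D),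
    (∀ ψ, PI p B ψ → ∃ μ : T →* ℂˣ, ∀ t : T, (t : K) ∈ TJ U T D (Js U B D ψ) → ψ ⟨t, h.tB t.2⟩ = μ t * ψ 1) ∧
    (∀ ψ ψ', PI p B ψ → PI p B ψ' → Js U B D ψ = Js U B D ψ' →
      (∀ t : B, (t : K) ∈ TJ U T D (Js U B D ψ) → ψ t * ψ' 1 = ψ' t * ψ 1) → ψ = ψ') ∧
    ∀ lam, Lam U D lam →
      (∀ ψ, PI p B ψ → ∀ J : Finset I, ((J : Set I) = Js U B D ψ →
        ip (ψ ∘ inclusion h.uB) (fun u => (psi lam J u : ℂ)) = 1) ∧ ((J : Set I) ≠ Js U B D ψ →
        ip (ψ ∘ inclusion h.uB) (fun u => (psi lam J u : ℂ)) = 0)) ∧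
      (∀ ψ, IsIrrCharacter B ψ → ∀ l : U →* ℂˣ, ip (ψ ∘ inclusion h.uB) (fun u => (l u : ℂ)) ≠ 0 → PI p B ψ) ∧
      (∀ lam', Lam U D lam' → ∃ t ∈ T, ∀ i, ∀ u u' : U, (u' : K) = t * u * t⁻¹ → lam' i u = lam i u') ∧
      ∀ t ∈ T, ∀ i, (∀ u u' : U, (u' : K) = t * u * t⁻¹ → lam i u' = lam i u) → t ∈ TJ U T D {i}

/-- **the complement can be chosen such that it fixes `fl lam`** -/
def AdjBox : Prop :=
  ∀ {X K I : Type} [Group X] [Group K] [Finite K] [Fintype I] {ι : X →* K} {U T B : Subgroup K} {D : I → Subgroup K}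
    {Φ : Subgroup (MulAut K)} {R : (K → ℂ) → (B → ℂ) → Prop}, Fr p ι U T B D Φ R → ∀ lam, Lam U D lam →
    ∃ Φ', Fr p ι U T B D Φ' R ∧ (∀ Λ, IsL ι B Φ Λ → IsL ι B Φ' Λ) ∧
      ∀ φ ∈ Φ', ∀ u u' : U, (u' : K) = φ u → fl lam u' = fl lam u

/-- **the bijection** -/
def SpBox : Prop :=
  ∀ {X K I : Type} [Group X] [Group K] [Finite K] [Fintype I] {ι : X →* K} {U T B : Subgroup K} {D : I → Subgroup K}
    {Φ : Subgroup (MulAut K)} {R : (K → ℂ) → (B → ℂ) → Prop}, Fr p ι U T B D Φ R →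
    ∀ Λ, IsL ι B Φ Λ → ∃ Ω, CF p Λ Ω

/-- **descent to a central quotient and to a subgroup** -/
def DescBox : Prop :=
  ∀ {X' X : Type} [Group X'] [Group X] [Finite X'] (π : X' →* X), Function.Surjective π → π.ker ≤ center X' →
    commutator X' = ⊤ → ∀ (Λ' : Subgroup (MulAut X')) (Ω : (X' → ℂ) → In Λ' → ℂ), CF p Λ' Ω →
    ∀ Λ : Subgroup (MulAut X), (∀ α ∈ Λ, ∃ α' ∈ Λ', ∀ x, π (α' x) = α (π x)) → (∀ y, y ∈ In Λ' ↔ π y ∈ In Λ) →
    ∀ l, ∃ Ω', CD p Λ l Ω'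

/-- all situations are good -/
def GdA (X : Type) [Group X] : Prop := ∀ Γ : Subgroup (MulAut X), Sit p X Γ → Gd p X Γ

end Cfsg.Agent.MO.Df
end

-- part: MO/Df/Lab
section
/-!
# MO, defining characteristic: symmetries, the centre, labels (helper84, from `GAL/C2/Defs`, `GAL/C2/Lab`)

* `Good D`, `Sym D α A π ε` : the automorphism `α` commutes with `F` and maps the simple root group `i` to `π i` by
  `u ↦ u ^ p ^ ε i`;
* `Zc D` : the centre; `Gd' D` : the subgroup generated by the root groups;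
* `mr_sq` : the mean of a `p'`-character over the regular unipotent elements has absolute value one;
* `lb_nrm`, `lb_tw` : central characters, the label of the product with a linear character.
-/

set_option autoImplicit false
set_option maxHeartbeats 400000
set_option linter.unusedSectionVars false

namespace Cfsg.Agent.MO.Df

open Cfsg CoxeterSystem Cfsg.Agent.Tits.Roots Cfsg.Agent.Nodes.Reps Cfsg.Agent.Nodes.BNOf
open Cfsg.Agent.DL Cfsg.Agent.DL.PP Cfsg.Agent.DL.Asm Cfsg.Agent.DL.Uni Cfsg.Agent.DL.Mk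
open Cfsg.Agent.Characters.Core Cfsg.Agent.H40.OC Matrix
open Cfsg.Agent.GAL.C2 (nrm_mem_of RV_central exists_J pb chr_pb ext_chr chr_J map_tor)
open Cfsg.Agent.GAL.Two (Wp Wp_one Wp_mul Wp_simple om mem_om st st_congr st_mul st_inj st_surj)
open scoped ComplexConjugate

theorem pne (p : ℕ) [h : Fact p.Prime] : p ≠ 0 := h.out.ne_zero

variable {p : ℕ} [Fact p.Prime] {k : Type} [Field k] [CharP k p] {Y : Type} [Group Y] {N : Type} [Fintype N]
  [DecidableEq N] {ρ : Y →* GL N k} {F : MulAut Y} {G : Subgroup Y} [IsAlgClosed k] (D : Datum p ρ F G)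

/-- the hypotheses of the parametrisation of the characters of `p'`-degree -/
structure Good : Prop where
  qs : D.QS
  cz : CZ D
  hn : HN D

/-- an automorphism which permutes the simple root groups -/
structure Sym (α : MulAut Y) (A : Matrix D.R D.R ℤ) (π : Equiv.Perm D.I) (ε : D.I → ℕ) : Prop where
  au : Au D α A
  kap : ∀ i, ∃ c : k, c ≠ 0 ∧ ∀ u ∈ D.U, kap D (π i) (α u) = c * kap D i u ^ p ^ ε i
  wt : ∀ i, D.wt (sr (π i)) ᵥ* A = ((p : ℤ) ^ ε i) • D.wt (sr i)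
  cw : ∀ i, A *ᵥ D.cw i = ((p : ℤ) ^ ε i) • D.cw (π i)

/-- the subgroup generated by the root groups -/
abbrev Gd' : Subgroup Y := D.S {a | D.Rt a}

/-- the centre -/
def Zc : Subgroup Y where
  carrier := {z | z ∈ D.T ∧ ∀ i, D.χ (sr i) z = 1}
  one_mem' := ⟨one_mem _, fun _ => D.χ_one _⟩
  mul_mem' ha hb := ⟨mul_mem ha.1 hb.1, fun i => by rw [D.χ_mul _ ha.1 hb.1, ha.2, hb.2, mul_one]⟩
  inv_mem' ha := ⟨inv_mem ha.1, fun i => by rw [D.χ_inv _ ha.1, ha.2, inv_one]⟩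

variable {D} {α β : MulAut Y} {A B : Matrix D.R D.R ℤ} {π π' : Equiv.Perm D.I} {ε ε' : D.I → ℕ}

theorem Sym.self (h : D.QS) : Sym D F D.Mx D.σ fun i => D.ex (sr i) where
  au := ⟨fun _ => rfl, D.F_mem_G_iff, D.F_mem_T_iff, h.F_mem_U, D.F_τ⟩
  kap i := ⟨gam D i, (gam D i).ne_zero, fun _ hu => kap_F h i hu⟩
  wt i := by rw [← h.g_sr]; exact D.wt_g (isRoot_sr _ _ i)
  cw i := by rw [← D.cor_sr, ← D.cor_sr, ← h.g_sr]; exact D.Mx_cor (isRoot_sr _ _ i)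

theorem Sym.one : Sym D 1 1 1 fun _ => 0 where
  au := ⟨fun _ => rfl, fun _ => Iff.rfl, fun _ => Iff.rfl, fun _ => Iff.rfl, fun c => by rw [mon_one]; rfl⟩
  kap i := ⟨1, one_ne_zero, fun u _ => by simp only [Equiv.Perm.coe_one, id_eq, MulAut.one_apply, pow_zero, pow_one, one_mul]⟩
  wt i := by simp only [Equiv.Perm.coe_one, id_eq, vecMul_one, pow_zero, one_smul]
  cw i := by simp

theorem Sym.mul (h : Sym D α A π ε) (h' : Sym D β B π' ε') :
    Sym D (α * β) (A * B) (π * π') fun i => ε' i + ε (π' i) where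
  au := ⟨fun y => by rw [MulAut.mul_apply, h'.au.comm, h.au.comm, MulAut.mul_apply],
    fun y => (h.au.memG _).trans (h'.au.memG y), fun y => (h.au.memT _).trans (h'.au.memT y),
    fun y => (h.au.memU _).trans (h'.au.memU y), fun c => by rw [MulAut.mul_apply, h'.au.tau, h.au.tau, mon_mul]⟩
  kap i := by
    obtain ⟨c, h1, h2⟩ := h.kap (π' i)
    obtain ⟨c', h1', h2'⟩ := h'.kap i
    exact ⟨c * c' ^ p ^ ε (π' i), mul_ne_zero h1 (pow_ne_zero _ h1'), fun u hu => by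
      rw [MulAut.mul_apply, Equiv.Perm.mul_apply, h2 _ ((h'.au.memU u).2 hu), h2' u hu, mul_pow, ← pow_mul, pow_add,
        mul_assoc]⟩
  wt i := by rw [← vecMul_vecMul, Equiv.Perm.mul_apply, h.wt, smul_vecMul, h'.wt, smul_smul, pow_add, mul_comm]
  cw i := by rw [← mulVec_mulVec, Equiv.Perm.mul_apply, h'.cw, mulVec_smul, h.cw, smul_smul, pow_add]

theorem Sym.mem_GF (h : Sym D α A π ε) {y : Y} (hy : y ∈ GF F G) : α y ∈ GF F G :=
  ⟨(h.au.memG y).2 hy.1, (h.au.comm y).symm.trans (congrArg α hy.2)⟩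

theorem chr_wt_mon (h : Sym D α A π ε) (c : D.R → kˣ) (i : D.I) :
    chr (D.wt (sr (π i))) (mon A c) = chr (D.wt (sr i)) c ^ p ^ ε i := by
  rw [chr_mon, h.wt, chr_zsmul]
  norm_cast

theorem Zc_comm {z : Y} (hz : z ∈ Zc D) {g : Y} (hg : g ∈ G) : z * g = g * z := by
  have h1 : ∀ a, D.χ a z = 1 := fun a => by
    rw [D.eq_sum_sr a]
    refine Finset.sum_induction _ (fun b => D.χ b z = 1) (fun b c hb hc => ?_) (D.χ_zero z) fun i _ => ?_
    · rw [D.χ_add, hb, hc, mul_one]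
    · rw [D.χ_zsmul, hz.2, _root_.one_zpow]
  have h2 : G ≤ Subgroup.centralizer {z} := D.G_eq.ge.trans (sup_le
    (fun t ht => Subgroup.mem_centralizer_singleton_iff.2 (D.T_comm ht hz.1)) (RGD.Sup_le fun a ha y hy => by
      obtain ⟨u, rfl⟩ := (D.mem_X a ha y).1 hy
      have := D.tor' ha hz.1 u
      rw [h1, one_mul] at this
      exact Subgroup.mem_centralizer_singleton_iff.2 (mul_inv_eq_iff_eq_mul.1 this).symm))
  exact (Subgroup.mem_centralizer_singleton_iff.1 (h2 hg)).symm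

theorem Zc_cj {z : Y} (hz : z ∈ Zc D) {g : Y} (hg : g ∈ G) : g * z * g⁻¹ = z := by
  rw [← Zc_comm hz hg, mul_inv_cancel_right]

theorem Zc_F (h : D.QS) : ∀ z ∈ Zc D, F z ∈ Zc D := fun z hz => ⟨D.F_mem_T hz.1, fun i => by
  obtain ⟨j, rfl⟩ := D.σ.surjective i
  rw [← h.g_sr, D.χ_F (isRoot_sr _ _ j) hz.1, hz.2, one_pow]⟩

theorem χ_coch (i : D.I) (v : D.R → ℤ) (a : kˣ) : D.χ (sr i) (D.τ (coch v a)) = (a ^ (Wt D *ᵥ v) i : kˣ) := by
  rw [D.χ_τ, chr_coch]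
  rfl

theorem coch_mem_Zc {v : D.R → ℤ} (hv : Wt D *ᵥ v = 0) (a : kˣ) : D.τ (coch v a) ∈ Zc D :=
  ⟨D.τ_mem _, fun i => by rw [χ_coch, hv, Pi.zero_apply, zpow_zero, Units.val_one]⟩

theorem Wm_fix {v : D.R → ℤ} (hv : Wt D *ᵥ v = 0) (u : D.W) : D.Wm u *ᵥ v = v := by
  induction u using D.cs.simple_induction_left with
  | one => rw [D.Wm_one, one_mulVec]
  | mul_simple_left u i ih =>
    rw [D.Wm_mul, ← mulVec_mulVec, ih, D.Wm_simple, sub_mulVec, one_mulVec, vecMulVec_mulVec,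
      show D.wt (sr i) ⬝ᵥ v = 0 from congrFun hv i]
    simp

theorem Wt_pi {m : ℕ} {ϖ : D.I → D.R → ℤ} (h : ∀ b i, D.wt b ⬝ᵥ ϖ i = (p : ℕ) ^ m * b i) (i : D.I) :
    Wt D *ᵥ ϖ i = ((p : ℤ) ^ m) • Pi.single i 1 := funext fun j => by
  refine (h (sr j) i).trans ?_
  simp [sr, Pi.single_apply, eq_comm]

theorem Wt_sum {m : ℕ} {ϖ : D.I → D.R → ℤ} (h : ∀ b i, D.wt b ⬝ᵥ ϖ i = (p : ℕ) ^ m * b i) (s : D.I → ℤ) :
    Wt D *ᵥ ∑ i, s i • ϖ i = ((p : ℤ) ^ m) • s := by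
  rw [mulVec_sum]
  simp only [mulVec_smul, Wt_pi h, ← Pi.single_smul, smul_eq_mul, mul_one, Finset.univ_sum_single]
  exact funext fun i => mul_comm _ _

theorem cw_mem_Gd (i : D.I) (a : kˣ) : D.τ (coch (D.cw i) a) ∈ Gd' D := by
  obtain ⟨c₁, c₂, -, -, t, -, h⟩ := D.rank_one i
  have h0 : ∀ {b}, D.Rt b → ∀ u, D.x b u ∈ Gd' D := fun hb u => RGD.le_Sup (S := {a | D.Rt a}) hb (D.x_mem hb u)
  have h1 : ∀ u : kˣ, D.τ (coch (D.cw i) u⁻¹) * t * D.n i ∈ Gd' D := fun u => by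
    have := h0 (isRoot_sr _ _ i).neg u
    rwa [h u, mul_mem_cancel_right (h0 (isRoot_sr _ _ i) _), mul_assoc, mul_mem_cancel_left (h0 (isRoot_sr _ _ i) _)]
      at this
  simpa only [inv_inv, inv_one, map_one, one_mul, _root_.mul_inv_rev, mul_mul_inv_mul_cancel, mul_inv_cancel_right] using mul_mem (h1 a⁻¹) (inv_mem (h1 1))

theorem Gd_cj {g y : Y} (hg : g ∈ G) (hy : y ∈ Gd' D) : g * y * g⁻¹ ∈ Gd' D := by
  obtain ⟨s, hs, t, ht, rfl⟩ := (D.mem_TS (A := {a | D.Rt a}) fun _ h => h).1 (D.G_eq.ge hg)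
  rw [show s * t * y * (s * t)⁻¹ = s * (t * y * t⁻¹) * s⁻¹ by group]
  exact mul_mem (mul_mem hs (D.conj_mem_S_of_T (fun _ h => h) ht hy)) (inv_mem hs)

theorem Gd_F : ∀ y ∈ Gd' D, F y ∈ Gd' D := fun _ hy => D.F_mem_S (fun _ h => h) (fun a h => D.g_root a h) hy

section lvl

variable {d e : ℕ} {ζ : kˣ} (L : Lvl D d e) (hζ : IsPrimitiveRoot ζ (p ^ e - 1))
include L

theorem Lvl_T {t : Y} (ht : t ∈ D.T) : (F ^ d) t = t ^ p ^ e :=
  (L.tor (y := 1) (w := 1) (one_mem _) (by simpa only [inv_one, map_one, mul_one] using rp_one)).frob t (by rwa [cj_one])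

include hζ

theorem exists_cen (hZ : CZ D) {z : Y} (hz : z ∈ Zc D) (h : (F ^ d) z = z) :
    ∃ v, Wt D *ᵥ v = 0 ∧ z = D.τ (coch v ζ) := by
  obtain ⟨m, ϖ, hϖ⟩ := hZ
  obtain ⟨x, hx⟩ := exists_coch L hζ (y := 1) (w := 1) (one_mem _) (by simpa only [inv_one, map_one, mul_one] using rp_one) (by rw [cj_one]; exact hz.1) h
  rw [one_mul, inv_one, mul_one] at hx
  have h1 : D.τ (coch (((p : ℤ) ^ m) • x - ∑ i, (Wt D *ᵥ x) i • ϖ i) ζ) = z ^ p ^ m := by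
    have h2 : coch (∑ i, (Wt D *ᵥ x) i • ϖ i) ζ = 1 :=
      Finset.sum_induction _ (fun v => coch v ζ = 1) (fun a b ha hb => by rw [coch_add, ha, hb, mul_one])
        (funext fun _ => zpow_zero _) fun i _ => by
          have h3 := hz.2 i
          rw [hx, χ_coch, Units.val_eq_one] at h3
          rw [coch_zsmul, h3, map_one]
    rw [sub_eq_add_neg, coch_add, coch_neg, h2, inv_one, mul_one, coch_zsmul, hx, ← map_pow, ← map_pow]
    norm_cast
  have h2 : ∀ j, z ^ p ^ (e * j) = z := fun j => by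
    induction j with
    | zero => simp
    | succ j ih => rw [mul_add, mul_one, pow_add, pow_mul, ih, ← Lvl_T L hz.1, h]
  refine ⟨((p : ℤ) ^ (e * m - m)) • (((p : ℤ) ^ m) • x - ∑ i, (Wt D *ᵥ x) i • ϖ i), ?_, ?_⟩
  · rw [mulVec_smul, mulVec_sub, mulVec_smul, Wt_sum hϖ, sub_self, smul_zero]
  · rw [coch_zsmul, map_zpow, map_zpow, h1, ← h2 m]
    norm_cast
    rw [h2, ← pow_mul, ← pow_add, Nat.add_sub_cancel' (Nat.le_mul_of_pos_left m L.e_pos), h2]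

theorem exists_nrm_cen (h : D.QS) (hZ : CZ D) {z : Y} (hz : z ∈ Zc D) (hF : F z = z) :
    ∃ v, Wt D *ᵥ v = 0 ∧ z = nrm F d (D.τ (coch v ζ)) := by
  obtain ⟨v, hv, rfl⟩ := exists_cen L hζ hZ hz (CF.pow_apply_of_fixed hF d)
  have h0 : 1 < p ^ e := Nat.one_lt_pow L.e_pos.ne' (Fact.out : p.Prime).one_lt
  obtain ⟨b, hb⟩ := exists_zpow_eq (n := ((p ^ e - 1 : ℕ) : ℤ)) (by omega) ζ⁻¹
  rw [zpow_natCast] at hb
  have h1 := coch_mem_Zc hv b
  have h2 : (F ^ d) (D.τ (coch v b)) = D.τ (coch v b) * (D.τ (coch v ζ))⁻¹ := by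
    rw [Lvl_T L h1.1, ← map_inv, ← map_inv, ← hb, map_pow, map_pow, ← pow_succ', Nat.sub_add_cancel h0.le]
  obtain ⟨v', hv', h3⟩ := exists_cen L hζ hZ (mul_mem h1 (inv_mem (Zc_F h _ h1))) (by
    rw [map_mul, map_inv, ← MulAut.mul_apply _ (F ^ d) F, ← pow_succ, pow_succ', MulAut.mul_apply, h2, map_mul F, map_inv F, hF,
      _root_.mul_inv_rev, inv_inv, mul_assoc, inv_mul_cancel_left])
  exact ⟨v', hv', by rw [← h3, nrm_lang, h2, _root_.mul_inv_rev, inv_inv, D.T_comm (D.τ_mem _) (inv_mem h1.1),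
    mul_inv_cancel_left]⟩

end lvl

variable [Fintype (GF F G)] {T : Subgroup Y} {θ : Y → ℂ} {χ : GF F G → ℂ} {d e : ℕ} {ζ : kˣ} {c : D.R → ℂˣ}

theorem mr_sq (h : Good D) [Fintype (UH D)] (hχ : IsIrrCharacter (GF F G) χ) (hp : ¬ p ∣ charDegree χ) :
    Complex.normSq (mr (UH D) (Do D) χ) = 1 := by
  classical
  have := @Fintype.ofFinite _ (finite_irr (G := GF F G))
  have := Fintype.ofFinite (TH D)
  have := Fintype.ofFinite (Ob D)
  obtain ⟨lam, hl⟩ := exists_lam h.qs h.cz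
  obtain ⟨d, e, L⟩ := exists_lvl D
  obtain ⟨ζ, hζ⟩ := exists_prim (p := p) (k := k) L.e_pos
  have h1 : ∀ ψ : IrrCharacter (GF F G),
      (if ¬ p ∣ charDegree ψ.1 then 1 else 0 : ℝ) ≤ Complex.normSq (mr (UH D) (Do D) ψ) := fun ψ => by
    obtain ⟨c, n, h1, h2, h3⟩ := mr_congr (sys h.qs h.cz) hl (D.isPGroup_U.comap_subtype) (fun f u hu =>
      h.hn (f.comp (MonoidHom.mk' (fun x => ⟨⟨x.1, x.2.2⟩, x.2.1⟩) fun _ _ => rfl)) ⟨u, u.2, u.1.2⟩ fun i =>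
        (hu _).2 i rfl) (χ := ψ.1) (isCharacter_comp (UH D).subtype (isIrr_isCharacter ψ.2))
      fun t _ u _ => by simpa only [inv_inv] using isIrr_isClassFunction ψ.2 u t⁻¹
    rw [h1, deg_of_eq h2, Complex.normSq_intCast]
    split_ifs with h4
    · simpa only using mul_self_nonneg (c : ℝ)
    · have : c ≠ 0 := fun e => h4 (by rwa [e, sub_zero, Int.natCast_dvd_natCast] at h3)
      exact_mod_cast mul_self_pos.2 this
  have h2 : Nat.card (Quotient (clsSetoid D)) ≤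
      Nat.card {ψ : IrrCharacter (GF F G) // ¬ p ∣ charDegree (ψ : GF F G → ℂ)} := by
    choose f f1 f2 f3 using fun ω : Quotient (clsSetoid D) => exists_of_fx L hζ h.cz ω.out.2.choose_spec
    exact Nat.card_le_card_of_injective (fun ω => ⟨⟨f ω, f1 ω⟩, f2 ω⟩) fun ω ω' e =>
      Quotient.out_equiv_out.1 ((f3 ω).rel L hζ (f1 ω) ((congrArg (·.1.1) e : f ω = f ω') ▸ f3 ω'))
  have h3 : ∑ ψ : IrrCharacter (GF F G), (if ¬ p ∣ charDegree ψ.1 then 1 else 0 : ℝ) =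
      ∑ ψ : IrrCharacter (GF F G), Complex.normSq (mr (UH D) (Do D) ψ) := by
    refine le_antisymm (Finset.sum_le_sum fun ψ _ => h1 ψ) ((sum_mr_le_cls h.qs h.cz).trans
      ((Nat.cast_le.2 h2).trans_eq ?_))
    rw [Nat.card_eq_fintype_card, Fintype.card_subtype, Finset.card_filter, Nat.cast_sum]
    simp only [ite_not, Nat.cast_ite, CharP.cast_eq_zero, Nat.cast_one]
  have h4 := (Finset.sum_eq_sum_iff_of_le fun ψ _ => h1 ψ).1 h3 ⟨χ, hχ⟩ (Finset.mem_univ _)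
  rw [if_pos hp] at h4
  exact h4.symm

theorem ov_central (h : Ov D T θ χ) (hχ : IsIrrCharacter (GF F G) χ) {z : GF F G} (hz : (z : Y) ∈ T)
    (hc : ∀ g ∈ G, z * g = g * (z : Y)) : χ z = θ z * χ 1 := by
  have h0 : z ∈ Subgroup.center (GF F G) := Subgroup.mem_center_iff.2 fun g => Subtype.ext (hc g g.2.1).symm
  obtain ⟨a, h1, -⟩ := ODD.Red.exists_central hχ h0
  have h2 : ∀ g, χ (g * z⁻¹) = χ g / a ∧ a ≠ 0 := fun g => by
    have ha : a ≠ 0 := fun e => isIrr_apply_one_ne_zero hχ (by simpa [e] using h1 z⁻¹)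
    refine ⟨eq_div_of_mul_eq ha ?_, ha⟩
    rw [mul_comm, ← h1, Subgroup.mem_center_iff.1 (inv_mem h0), mul_inv_cancel_left]
  have h3 : classInner (res (GF F G) (R D T θ)) χ =
      θ z * conj a * classInner (res (GF F G) (R D T θ)) χ := by
    conv_lhs => rw [classInner_def, ← Equiv.sum_comp (Equiv.mulRight z)]
    rw [classInner_def, mul_left_comm, Finset.mul_sum (a := θ z * conj a)]
    refine congrArg _ (Finset.sum_congr rfl fun g _ => ?_)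
    simp only [Equiv.coe_mulRight, res, R]
    rw [Subgroup.coe_mul, RV_central h.lin ⟨hz, z.2⟩ hc, Subgroup.mem_center_iff.1 h0 g, h1, map_mul]
    ring
  have h4 : θ z * conj a = 1 := (mul_right_eq_self₀.1 (by rw [mul_comm]; exact h3.symm)).resolve_right h.ne
  have h5 : conj a = a⁻¹ := by
    have h6 := isCharacter_apply_inv (isIrr_isCharacter hχ) z
    have h7 := h1 1
    have h8 := isCharacter_apply_inv (isIrr_isCharacter hχ) 1
    rw [mul_one] at h7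
    rw [inv_one] at h8
    rw [← one_mul z⁻¹, (h2 1).1, h7, map_mul, ← h8, div_eq_inv_mul] at h6
    exact (mul_right_cancel₀ (isIrr_apply_one_ne_zero hχ) h6).symm
  rw [h5, mul_inv_eq_one₀ (h2 1).2] at h4
  rw [h4, ← h1, mul_one]

section

variable (L : Lvl D d e) (hζ : IsPrimitiveRoot ζ (p ^ e - 1)) (hχ : IsIrrCharacter (GF F G) χ) (h : Lb D d ζ χ c)
include L hζ h

include hχ in
theorem lb_nrm (hq : D.QS) {v : D.R → ℤ} (hv : Wt D *ᵥ v = 0) {z : GF F G} (hz : (z : Y) = nrm F d (D.τ (coch v ζ))) :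
    χ z = chr v c * χ 1 := by
  obtain ⟨y, hy, w, hw, θ, c', u, h1, h2, h3⟩ := h
  have h4 : (z : Y) ∈ Zc D := hz ▸ nrm_mem_of (Zc_F hq) d (coch_mem_Zc hv ζ)
  rw [ov_central h3 hχ (Zc_cj h4 hy ▸ conj_mem_cj.2 h4.1) fun g hg => Zc_comm h4 hg, hz,
    ← Zc_cj (coch_mem_Zc hv ζ) hy, h1, ← h2, Wm_fix hv]

/-- the label of the product with a linear character -/
theorem lb_tw (β : GF F G →* ℂˣ) (hβ : ∀ g : GF F G, (g : Y) ∈ Gd' D → β g = 1)
    (hu : ∀ g : GF F G, IsUni p (g : Y) → β g = 1) :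
    ∃ z : D.R → ℂˣ, (∀ i, chr (D.cw i) z = 1) ∧ Lb D d ζ (fun g => β g * χ g) (c * z) ∧ ∃ y ∈ G, ∃ w,
      D.Rp w (y⁻¹ * F y) ∧ ∀ v (g : GF F G), (g : Y) = nrm F d (y * D.τ (coch v ζ) * y⁻¹) → β g = chr v z := by
  obtain ⟨y, hy, w, hw, θ, c', u, h1, h2, h3⟩ := h
  let φ : Y → ℂ := extendByZero (GF F G) fun g => β g
  have e1 : ∀ g : GF F G, φ g = β g := fun g => extendByZero_of_mem _ _ g.2
  have e2 : ∀ a ∈ GF F G, ∀ b ∈ GF F G, φ (a * b) = φ a * φ b := fun a ha b hb => by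
    rw [← Subgroup.coe_mk _ a ha, ← Subgroup.coe_mk _ b hb, ← Subgroup.coe_mul, e1, e1, e1, map_mul, Units.val_mul]
  have e3 : IsLin (cj y D.T ⊓ GF F G) φ :=
    ⟨(e1 1).trans (by rw [map_one, Units.val_one]), fun a ha b hb => e2 a ha.2 b hb.2⟩
  have e4 : PConst p (GF F G) φ := ⟨fun g hg a ha => by
      rw [← Subgroup.coe_mk _ a ha, ← Subgroup.coe_mk _ g hg, ← Subgroup.coe_inv, ← Subgroup.coe_mul,
        ← Subgroup.coe_mul, e1, e1, map_mul, map_mul, map_inv, mul_inv_cancel_comm],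
    fun s hs a ha _ h4 _ => by rw [e2 s hs a ha, e1 ⟨a, ha⟩, hu ⟨a, ha⟩ h4, Units.val_one, mul_one]⟩
  have e5 : res (GF F G) (R D (cj y D.T) (φ * θ)) = fun g => β g * res (GF F G) (R D (cj y D.T) θ) g :=
    funext fun g => ((sys' D).pconst _ h3.tor φ θ e4 g g.2).trans (by rw [e1]; rfl)
  obtain ⟨z, hz⟩ := exists_lab L hζ hy hw e3
  have h5 : ∀ i, chr (D.cw i) z = 1 := fun i => Units.ext (by
    rw [← hz, e1 ⟨_, (nrm_mem L hζ hy hw _).2⟩, hβ _ (nrm_mem_of Gd_F d (Gd_cj hy (cw_mem_Gd i ζ)))])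
  have h6 : ∀ u v, chr (D.Wm u *ᵥ v) z = chr v z := fun u v => by
    induction u using D.cs.simple_induction_left with
    | one => rw [D.Wm_one, one_mulVec]
    | mul_simple_left u i ih =>
      rw [D.Wm_mul, ← mulVec_mulVec, D.Wm_simple, sub_mulVec, one_mulVec, vecMulVec_mulVec, chr_sub, ih, op_smul_eq_smul,
        chr_zsmul, h5, _root_.one_zpow, inv_one, mul_one]
  refine ⟨z, h5, ⟨y, hy, w, hw, φ * θ, z * c', u, fun v => ?_, fun v => ?_, h3.tor, ⟨?_, fun a ha b hb => ?_⟩, ?_, ?_⟩,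
    y, hy, w, hw, fun v g hg => Units.ext (by rw [← e1, hg, hz])⟩
  · rw [Pi.mul_apply, hz, h1, map_mul, Units.val_mul]
  · rw [map_mul, map_mul, h2, h6, mul_comm]
  · rw [Pi.mul_apply, e3.one, h3.lin.one, mul_one]
  · rw [Pi.mul_apply, Pi.mul_apply, Pi.mul_apply, e3.mul a ha b hb, h3.lin.mul a ha b hb, mul_mul_mul_comm]
  · obtain ⟨ε, h7, h8⟩ := h3.tru
    refine ⟨ε, h7, ?_⟩
    have h9 := isCharacter_mul (isIrr_isCharacter (ODD.Red.isIrr_lin_mul β isIrr_one)) h8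
    convert h9 using 1
    funext g
    have := congrFun e5 g
    simp only [res, Pi.smul_apply, Pi.mul_apply, Pi.one_apply, smul_eq_mul] at this ⊢
    rw [this]
    ring
  · rw [e5, classInner_def]
    refine fun e => h3.ne (Eq.trans ?_ e)
    rw [classInner_def]
    refine congrArg _ (Finset.sum_congr rfl fun g _ => ?_)
    have h7 : (β g : ℂ) * conj (β g : ℂ) = 1 := by
      have := isCharacter_apply_inv (isIrr_isCharacter (ODD.Red.isIrr_lin_mul β isIrr_one)) g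
      simp only [Pi.one_apply, mul_one] at this
      rw [← this, ← Units.val_mul, ← map_mul, mul_inv_cancel, map_one, Units.val_one]
    rw [map_mul, mul_mul_mul_comm, h7, one_mul]

end

end Cfsg.Agent.MO.Df
end

-- part: MO/Df/Cd
section
/-!
# MO, defining characteristic: lattices, levels, the Borel subgroup (helper84, from `GAL/C2/Cd`, `GAL/Two`, `MK/Two/Gen`)

* `Ps π ε` : the action on the coweight lattice; `st_map`; `Lev` : the level;
* `BH D` : the rational points of the Borel subgroup, `bo_bh`; `sym_Do`.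
-/

set_option autoImplicit false
set_option maxHeartbeats 400000
set_option linter.unusedSectionVars false

namespace Cfsg.Agent.MO.Df

open Cfsg Subgroup CoxeterSystem Cfsg.Agent.ChevalleyStructure.CoxeterGeom Cfsg.Agent.DL.St Cfsg.Agent.Tits.Roots Cfsg.Agent.Nodes.Reps Cfsg.Agent.Nodes.BNOf
open Cfsg.Agent.DL Cfsg.Agent.DL.PP Cfsg.Agent.DL.Asm Cfsg.Agent.DL.Uni Cfsg.Agent.DL.Mk
open Cfsg.Agent.Characters.Core Cfsg.Agent.H40.OC Matrix
open Cfsg.Agent.GAL.C2 (nrm_mem_of RV_central exists_J pb chr_pb ext_chr chr_J map_tor)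
open Cfsg.Agent.GAL.Two (Wp Wp_one Wp_mul Wp_simple om mem_om st st_congr st_mul st_inj st_surj)

section gen

variable {I R K : Type} [Fintype I] [Fintype R] [Field K]

theorem tor_of [DecidableEq R] {B : Matrix R R ℤ} {c : R → Kˣ} (h : ∀ v, chr (B *ᵥ v) c = chr v c) {p d e : ℕ} [Fact p.Prime]
    (hB : B ^ d = (((p : ℕ) : ℤ) ^ e) • (1 : Matrix R R ℤ)) : c ^ (p ^ e - 1) = 1 := by
  have h1 : ∀ m v, chr (B ^ m *ᵥ v) c = chr v c := fun m => by
    induction m with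
    | zero => intro v; rw [pow_zero, one_mulVec]
    | succ m ih => intro v; rw [pow_succ', ← mulVec_mulVec, h, ih]
  refine ext_chr fun v => mul_right_cancel (b := chr v c) ?_
  rw [map_pow, ← pow_succ, Nat.sub_add_cancel (Nat.one_le_pow _ _ (Fact.out : p.Prime).pos), map_one, one_mul]
  conv_rhs => rw [← h1 d v, hB, smul_mulVec, one_mulVec, chr_zsmul, ← Nat.cast_pow, zpow_natCast]

variable [DecidableEq I] (p : ℕ)

/-- the action on the coweight lattice -/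
def Ps (π : Equiv.Perm I) (ε : I → ℕ) : Matrix I I ℤ := of fun j i => if j = π i then (p : ℤ) ^ ε i else 0

theorem Ps_single (π : Equiv.Perm I) (ε : I → ℕ) (i : I) :
    Ps p π ε *ᵥ Pi.single i 1 = p ^ ε i • Pi.single (π i) 1 := funext fun j => by
  simp [Ps, Pi.single_apply]

theorem Ps_apply (π : Equiv.Perm I) (ε : I → ℕ) (v : I → ℤ) (i : I) : (Ps p π ε *ᵥ v) (π i) = (p : ℤ) ^ ε i * v i := by
  simp [Ps, mulVec, dotProduct]

theorem pb_Ps (π : Equiv.Perm I) (ε : I → ℕ) (b : I → Kˣ) (i : I) : pb (Ps p π ε) b i = b (π i) ^ p ^ ε i := by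
  rw [← chr_single i (pb _ b), chr_pb, Ps_single, chr_nsmul, chr_single]

end gen

theorem st_map {I W : Type} [Fintype I] [DecidableEq I] [Group W] {M : CoxeterMatrix I} (cs : CoxeterSystem M W)
    {A : I → I → ℤ} (h : IsCartan M A) [Finite W] {k : Type} [Field k] {p : ℕ} [Fact p.Prime] [CharP k p] (π : Equiv.Perm I) (ε : I → ℕ) (Ψ : Matrix I I ℤ)
    (h1 : ∀ i, Ψ *ᵥ Pi.single i 1 = p ^ ε i • Pi.single (π i) 1)
    (h2 : ∀ i, Ψ * Wp cs h (cs.simple i) = Wp cs h (cs.simple (π i)) * Ψ) {b b' : I → kˣ}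
    (hb : ∀ v, chr v b' = chr (Ψ *ᵥ v) b) (i : I) : st cs h i b' = st cs h (π i) b ^ p ^ ε i := by
  have h3 : ∀ w, ∃ w', Ψ * Wp cs h w = Wp cs h w' * Ψ := fun w => by
    induction w using cs.simple_induction_left with
    | one => exact ⟨1, by rw [Wp_one, mul_one, one_mul]⟩
    | mul_simple_left w j ih =>
      obtain ⟨w', hw⟩ := ih
      exact ⟨cs.simple (π j) * w', by rw [Wp_mul, Wp_mul, ← mul_assoc, h2, mul_assoc, hw, mul_assoc]⟩
  have h4 : ∀ w', ∃ w, Ψ * Wp cs h w = Wp cs h w' * Ψ := fun w => by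
    induction w using cs.simple_induction_left with
    | one => exact ⟨1, by rw [Wp_one, mul_one, one_mul]⟩
    | mul_simple_left w j ih =>
      obtain ⟨w', hw⟩ := ih
      obtain ⟨j, rfl⟩ := π.surjective j
      exact ⟨cs.simple j * w', by rw [Wp_mul, Wp_mul, ← mul_assoc, h2, mul_assoc, hw, mul_assoc]⟩
  have h5 : ∀ v j, (Ψ *ᵥ v) (π j) = (p : ℤ) ^ ε j * v j := fun v j => by
    have h6 : ∀ l, Ψ (π j) l = if l = j then (p : ℤ) ^ ε j else 0 := fun l => by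
      have h7 := congrFun (h1 l) (π j)
      rw [mulVec_single_one] at h7
      rw [show Ψ (π j) l = _ from h7, Pi.smul_apply, Pi.single_apply]
      by_cases h8 : l = j
      · simp [h8]
      · simp [h8, Ne.symm h8]
    simp [mulVec, dotProduct, h6]
  have h6 : Function.Injective Ψ.mulVec := fun u v huv => funext fun j =>
    mul_left_cancel₀ (a := (p : ℤ) ^ ε j) (pow_ne_zero _ (Nat.cast_ne_zero.2 (pne p))) (by rw [← h5, ← h5, huv])
  have h7 : Function.Injective fun u : I → ℤ => p ^ ε i • u := fun u v huv => funext fun j => by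
    have h8 := congrFun huv j
    simpa [pne p] using h8
  have h8 : (om cs h i).image Ψ.mulVec = (om cs h (π i)).image fun u => p ^ ε i • u := by
    ext v
    simp only [Finset.mem_image, mem_om]
    constructor
    · rintro ⟨_, ⟨w, rfl⟩, rfl⟩
      obtain ⟨w', hw⟩ := h3 w
      exact ⟨_, ⟨w', rfl⟩, by rw [mulVec_mulVec, hw, ← mulVec_mulVec, h1, mulVec_smul]⟩
    · rintro ⟨_, ⟨w', rfl⟩, rfl⟩
      obtain ⟨w, hw⟩ := h4 w'
      exact ⟨_, ⟨w, rfl⟩, by rw [mulVec_mulVec, hw, ← mulVec_mulVec, h1, mulVec_smul]⟩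
  rw [st, st, sum_pow_char_pow]
  simp only [hb]
  rw [← Finset.sum_image (f := fun v => (chr v b : k)) h6.injOn, h8, Finset.sum_image h7.injOn]
  simp only [chr_nsmul, Units.val_pow_eq_pow_val]

variable {p : ℕ} [Fact p.Prime] {k : Type} [Field k] [CharP k p] {Y : Type} [Group Y] {N : Type} [Fintype N]
  [DecidableEq N] {ρ : Y →* GL N k} {F : MulAut Y} {G : Subgroup Y} [IsAlgClosed k] {D : Datum p ρ F G}
  {α : MulAut Y} {A : Matrix D.R D.R ℤ} {π : Equiv.Perm D.I} {ε : D.I → ℕ}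

theorem Wt_cw (i : D.I) : Wt D *ᵥ D.cw i = fun j => D.A i j := funext fun j =>
  (D.pair i (sr j)).trans ((pairing_single _ _ _ _).trans (mul_one _))

theorem Wt_Wm (u : D.W) : Wt D * D.Wm u = Wp D.cs D.h u * Wt D := by
  ext i a
  exact congrFun ((D.wt_act' u (sr i)).symm.trans (vecMul_Wt D _).symm) a

theorem Sym.wt_mul (h : Sym D α A π ε) : Wt D * A = Ps p π ε * Wt D := by
  ext j a
  obtain ⟨i, rfl⟩ := π.surjective j
  exact (congrFun (h.wt i) a).trans (Ps_apply p π ε ((Wt D)ᵀ a) i).symm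

theorem Sym.ps_wp (h : Sym D α A π ε) (i : D.I) :
    Ps p π ε * Wp D.cs D.h (D.cs.simple i) = Wp D.cs D.h (D.cs.simple (π i)) * Ps p π ε := by
  refine ext_of_mulVec_single fun j => ?_
  rw [← mulVec_mulVec, ← mulVec_mulVec, Wp_simple, Wp_simple, mulVec_sub, mulVec_smul, ← Wt_cw, ← Wt_cw, mulVec_mulVec,
    ← h.wt_mul, ← mulVec_mulVec, h.cw, mulVec_smul, smul_smul, Ps_apply, mul_comm]

variable (D) in
/-- the level -/
structure Lev (d e : ℕ) (ζ : kˣ) (J : kˣ →* ℂˣ) : Prop where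
  good : Good D
  lvl : Lvl D d e
  prim : IsPrimitiveRoot ζ (p ^ e - 1)
  primJ : IsPrimitiveRoot (J ζ) (p ^ e - 1)

variable {d e : ℕ} {ζ : kˣ} {J : kˣ →* ℂˣ}

theorem p_pow_ne (he : 0 < e) : p ^ e - 1 ≠ 0 := Nat.sub_ne_zero_of_lt (Nat.one_lt_pow he.ne' (Fact.out : p.Prime).one_lt)

theorem exists_lev (h : Good D) : ∃ d e ζ J, Lev D d e ζ J := by
  obtain ⟨d, e, L⟩ := exists_lvl D
  obtain ⟨ζ, hζ⟩ := exists_prim (p := p) (k := k) L.e_pos
  obtain ⟨J, hJ⟩ := exists_J (p_pow_ne L.e_pos) hζ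
  exact ⟨d, e, ζ, J, h, L, hζ, hJ⟩

theorem Lev.inj (V : Lev D d e ζ J) {a a' : kˣ} (ha : a ^ (p ^ e - 1) = 1) (ha' : a' ^ (p ^ e - 1) = 1) (h : J a = J a') : a = a' := by
  have : NeZero (p ^ e - 1) := ⟨p_pow_ne V.lvl.e_pos⟩
  obtain ⟨i, hi, rfl⟩ := V.prim.eq_pow_of_mem_rootsOfUnity ha
  obtain ⟨j, hj, rfl⟩ := V.prim.eq_pow_of_mem_rootsOfUnity ha'
  rw [V.primJ.pow_inj hi hj (by rwa [← map_pow, ← map_pow])]

theorem Lev.tor (V : Lev D d e ζ J) [Fintype (GF F G)] {χ : GF F G → ℂ} {c : D.R → ℂˣ} (h : Lb D d ζ χ c) : c ^ (p ^ e - 1) = 1 :=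
  let ⟨w, hw⟩ := h.fx V.lvl V.prim
  tor_of hw (V.lvl.pow w)

/-! ### the Borel subgroup -/

variable (D) in
theorem pow_U {u : Y} (hu : u ∈ D.U) : ∃ n : ℕ, u ^ p ^ n = 1 :=
  let ⟨n, hn⟩ := D.isPGroup_U ⟨u, hu⟩
  ⟨n, congrArg Subtype.val hn⟩

theorem exists_regU (h : D.QS) : ∃ u ∈ D.U ⊓ GF F G, ∀ i, kap D i u ≠ 0 := by
  obtain ⟨a, ha⟩ := exists_fix_unit h
  obtain ⟨u, hu, h1⟩ := exists_kap_fix h (a := fun i => a i) fun i => by rw [ha]; simp
  exact ⟨u, hu, fun i => by rw [h1]; exact (a i).ne_zero⟩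

/-- the normalizer of `U^F` in `G^F` is `U^F T^F` -/
theorem exists_BF (h : D.QS) {y : Y} (hy : y ∈ GF F G) (hn : ∀ u ∈ D.U ⊓ GF F G, y⁻¹ * u * y ∈ D.U) :
    ∃ u ∈ D.U ⊓ GF F G, ∃ t ∈ D.T ⊓ GF F G, y = u * t := by
  obtain ⟨v, hv, h1⟩ := exists_regU h
  obtain ⟨u, hu, t, ht, rfl⟩ := (mem_Par_empty D.sbn).1 (mem_B_of_reg hv.1 h1 hy.1 (hn v hv))
  have h2 : F u * F t = u * t := by rw [← map_mul, (mem_GF.1 hy).2]
  have h3 : u⁻¹ * F u = t * (F t)⁻¹ := by rw [inv_mul_eq_iff_eq_mul, ← mul_assoc, ← h2, mul_inv_cancel_right]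
  have h4 : u⁻¹ * F u = 1 := D.eq_one_of_mem_U_of_mem_T (mul_mem (inv_mem hu) ((h.F_mem_U u).2 hu))
    (h3 ▸ mul_mem ht (inv_mem (D.F_mem_T ht)))
  rw [h4] at h3
  exact ⟨u, ⟨hu, D.U_le_G hu, (inv_mul_eq_one.1 h4).symm⟩, t, ⟨ht, D.T_le_G ht, (mul_inv_eq_one.1 h3.symm).symm⟩, rfl⟩

theorem kap_conj_B {u t v : Y} (hu : u ∈ D.U) (ht : t ∈ D.T) (hv : v ∈ D.U) (i : D.I) :
    kap D i (u * t * v * (u * t)⁻¹) = D.χ (sr i) t * kap D i v := by
  have h1 := D.conj_mem_U_of_T ht hv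
  rw [show u * t * v * (u * t)⁻¹ = u * (t * v * t⁻¹) * u⁻¹ by group, kap_mul i (mul_mem hu h1) (inv_mem hu),
    kap_mul i hu h1, kap_inv i hu, kap_conj i ht hv]
  ring

variable (D) in
/-- the rational points of the Borel subgroup -/
def BH : Subgroup (GF F G) := normalizer (UH D : Set (GF F G))

theorem mem_BH_of {g : GF F G} (h : ∀ v ∈ D.U ⊓ GF F G, (g : Y)⁻¹ * v * g ∈ D.U) : g ∈ BH D := by
  have := D.amb.finite_GF G
  refine (inv_mem_iff (H := BH D)).1 (mem_normalizer_fintype fun v hv => ?_)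
  rw [inv_inv]
  exact h v ⟨hv, v.2⟩

theorem conj_U {u t v : Y} (hu : u ∈ D.U) (ht : t ∈ D.T) (hv : v ∈ D.U) : (u * t)⁻¹ * v * (u * t) ∈ D.U := by
  have h1 := D.conj_mem_U_of_T (inv_mem ht) (mul_mem (mul_mem (inv_mem hu) hv) hu)
  rwa [show t⁻¹ * (u⁻¹ * v * u) * t⁻¹⁻¹ = (u * t)⁻¹ * v * (u * t) by group] at h1

theorem BH_split (h : D.QS) {b : GF F G} (hb : b ∈ BH D) :
    ∃ u ∈ D.U ⊓ GF F G, ∃ t ∈ D.T ⊓ GF F G, (b : Y) = u * t :=
  exists_BF h b.2 fun v hv => by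
    have h1 := (mem_normalizer_iff.1 (inv_mem hb) ⟨v, hv.2⟩).1 hv.1
    rwa [inv_inv] at h1

theorem bo_bh (h : Good D) : Bo p (UH D) (TH D) (BH D) (Do D) where
  sys := sys h.qs h.cz
  two := D.isPGroup_U.comap_subtype
  odd := by
    have := D.amb.finite_GF G
    intro h2
    obtain ⟨t, ht⟩ := exists_prime_orderOf_dvd_card' p h2
    have h3 := St.eq_one_of_pow D (t := ((t : GF F G) : Y)) t.2 (by
      have h5 := pow_orderOf_eq_one t
      rw [ht] at h5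
      exact congrArg (fun x : TH D => ((x : GF F G) : Y)) h5)
    have h4 : t = 1 := Subtype.ext (Subtype.ext h3)
    rw [h4, orderOf_one] at ht
    exact (Fact.out : p.Prime).one_lt.ne ht
  comm s hs t ht := Subtype.ext (D.T_comm hs ht)
  mem b := by
    refine ⟨fun hb => ?_, ?_⟩
    · obtain ⟨u, hu, t, ht, h1⟩ := BH_split h.qs hb
      exact ⟨⟨u, hu.2⟩, hu.1, ⟨t, ht.2⟩, ht.1, Subtype.ext h1⟩
    · rintro ⟨u, hu, t, ht, rfl⟩
      exact mem_BH_of fun v hv => conj_U hu ht hv.1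
  hn f u hu := h.hn (f.comp (MonoidHom.mk' (fun x => ⟨⟨x.1, x.2.2⟩, x.2.1⟩) fun _ _ => rfl)) ⟨u, u.2, u.1.2⟩
    fun i => (hu _).2 i rfl
  lam := exists_lam h.qs h.cz

section sym

variable {s : Equiv.Perm D.I}

theorem sym_zero_iff (h : Sym D α A s ε) {u : Y} (hu : u ∈ D.U) (i : D.I) : kap D (s i) (α u) = 0 ↔ kap D i u = 0 := by
  obtain ⟨c, h1, h2⟩ := h.kap i
  rw [h2 u hu, mul_eq_zero, or_iff_right h1, pow_eq_zero_iff (pow_ne_zero _ (pne p))]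

theorem sym_comm (hq : D.QS) (h : Sym D α A s ε) (i : D.I) : s (D.σ i) = D.σ (s i) := by
  have hF := Sym.self hq
  have h1 := x_mem_U (D := D) i 1
  have h2 : kap D (s (D.σ i)) (α (F (D.x (sr i) 1))) ≠ 0 := by
    rw [Ne, sym_zero_iff h ((hF.au.memU _).2 h1), sym_zero_iff hF h1, kap_x, if_pos rfl]
    exact one_ne_zero
  obtain ⟨j, hj⟩ := (D.σ * s).surjective (s (D.σ i))
  rw [← hj, h.au.comm, Equiv.Perm.mul_apply, Ne, sym_zero_iff hF ((h.au.memU _).2 h1), sym_zero_iff h h1, kap_x] at h2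
  obtain rfl : i = j := by
    by_contra h3
    exact h2 (if_neg h3)
  exact hj.symm

theorem sym_Do (hq : D.QS) (h : Sym D α A s ε) :
    ∃ σ : Equiv.Perm (Ob D), ∀ o, ∀ u ∈ UH D, h.au.aut u ∈ Do D (σ o) ↔ u ∈ Do D o := by
  have h1 : s * D.σ * s⁻¹ = D.σ := mul_inv_eq_iff_eq_mul.2 (Equiv.ext (sym_comm hq h))
  have h2 : ∀ a b, D.σ.SameCycle a b ↔ D.σ.SameCycle (s a) (s b) := fun a b => by
    conv_rhs => rw [← h1, Equiv.Perm.sameCycle_conj]
    simp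
  refine ⟨Quotient.congr s h2, fun o u hu => ⟨fun h3 => ⟨hu, fun i hi => ?_⟩, fun h3 => ⟨(h.au.memU _).2 hu, fun j hj => ?_⟩⟩⟩
  · exact (sym_zero_iff h hu i).1 (h3.2 _ (hi ▸ rfl))
  · obtain ⟨i, rfl⟩ := s.surjective j
    exact (sym_zero_iff h hu i).2 (h3.2 i ((Quotient.congr s h2).injective hj))

end sym

end Cfsg.Agent.MO.Df
end

-- part: MO/Df/Desc
section
/-!
# MO, defining characteristic: descent to a central quotient and to a subgroup (helper84, from `MK/Two`)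

`descBox : DescBox`.
-/

set_option autoImplicit false
set_option maxHeartbeats 400000

namespace Cfsg.Agent.MO.Df

open Cfsg Subgroup Cfsg.Agent.Characters.Core
open Cfsg.Agent.MK (In Nm St rs rs_coe conj_map deg_comp ExtOn)
open Cfsg.Agent.MK.Two.Desc

namespace Desc

variable {p : ℕ} {X' X : Type} [Group X'] [Group X] {π : X' →* X} {Λ' : Subgroup (MulAut X')} {Λ : Subgroup (MulAut X)}
  (d : Dt π Λ' Λ)

include d

variable [Finite X'] {Ω : (X' → ℂ) → In Λ' → ℂ} (c : CF p Λ' Ω)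

include c

theorem om_spec {θ : X → ℂ} (h : PI p X θ) : PI p (In Λ) (d.om Ω θ) ∧ ∀ y, d.om Ω θ (d.p y) = Ω (θ ∘ π) y := by
  have h1 : PI p X' (θ ∘ π) := h.comp π d.surj
  have h2 : PI p (In Λ') (Ω (θ ∘ π)) := c.bij.mapsTo h1
  obtain ⟨η, hη, he⟩ := ODD.Red.exists_quot d.p d.p_surj h2.1 fun z hz => by
    have h3 : π z = 1 := congrArg Subtype.val (show d.p z = 1 from hz)
    have h4 := c.cen _ h1 z (d.ker h3)
    simp only [Function.comp, h3, map_one] at h4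
    rw [mul_comm] at h4
    exact (mul_right_cancel₀ h.one_ne h4).symm
  have h5 : d.om Ω θ = η := funext fun y => by
    rw [Dt.om, ← he, Function.surjInv_eq d.p_surj]
  rw [h5]
  refine ⟨⟨hη, ?_⟩, he⟩
  rw [← deg_comp d.p η, show η ∘ d.p = Ω (θ ∘ π) from funext he]
  exact h2.2

theorem om_cen {θ : X → ℂ} (h : PI p X θ) (z : In Λ) (hz : (z : X) ∈ center X) :
    θ z * d.om Ω θ 1 = d.om Ω θ z * θ 1 := by
  obtain ⟨y, rfl⟩ := d.p_surj z
  have h4 := c.cen _ (h.comp π d.surj) y (d.cen hz)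
  rw [← map_one d.p, (om_spec d c h).2, (om_spec d c h).2]
  simpa only [Function.comp, map_one, Dt.p_coe] using h4

omit c in
theorem oi_aut {θ : X → ℂ} (h : PI p X θ) (α : MulAut X) : PI p X fun x => θ (α x) :=
  haveI : Finite X := Finite.of_surjective π d.surj
  h.comp α.toMonoidHom α.surjective

theorem om_eqv {θ : X → ℂ} (h : PI p X θ) (α : Λ) (y : In Λ) :
    d.om Ω (fun x => θ (α.1 x)) y = d.om Ω θ (rs Λ α y) := by
  obtain ⟨y, rfl⟩ := d.p_surj y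
  rw [← d.p_rs, (om_spec d c h).2, (om_spec d c (oi_aut d h α.1)).2, ← c.eqv _ (h.comp π d.surj)]
  congr 1
  funext x
  simp only [Function.comp, d.L_spec]

theorem om_inj {θ θ' : X → ℂ} (h : PI p X θ) (h' : PI p X θ') (e : d.om Ω θ = d.om Ω θ') : θ = θ' := by
  refine d.surj.injective_comp_right (c.bij.injOn (h.comp π d.surj) (h'.comp π d.surj) (funext fun y => ?_))
  rw [← (om_spec d c h).2, ← (om_spec d c h').2, e]

theorem om_surj {ψ : In Λ → ℂ} (h : PI p (In Λ) ψ) : ∃ θ, PI p X θ ∧ d.om Ω θ = ψ := by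
  obtain ⟨θ₀, h0, e⟩ := c.bij.surjOn (h.comp d.p d.p_surj)
  obtain ⟨θ, hθ, he⟩ := ODD.Red.exists_quot π d.surj h0.1 fun z hz => by
    have h3 : d.p ⟨z, cen_mem Λ' (d.ker hz)⟩ = 1 := Subtype.ext hz
    have h4 := c.cen _ h0 ⟨z, cen_mem Λ' (d.ker hz)⟩ (d.ker hz)
    rw [e] at h4
    simp only [Function.comp, h3, map_one] at h4
    rw [mul_comm (ψ 1)] at h4
    exact mul_right_cancel₀ h.one_ne h4
  have he' : θ ∘ π = θ₀ := funext he
  have h1 : PI p X θ := ⟨hθ, by rw [← deg_comp π θ, he']; exact h0.2⟩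
  refine ⟨θ, h1, funext fun y => ?_⟩
  obtain ⟨y, rfl⟩ := d.p_surj y
  rw [(om_spec d c h1).2, he', e]
  rfl

theorem om_ext {θ : X → ℂ} (h : PI p X θ) : ExtOn Λ (St Λ θ) θ (d.om Ω θ) := by
  obtain ⟨A, _, _, j, t, Ψ, ⟨n, ρ, -, rfl⟩, h1, h2, h3⟩ := c.ext _ (h.comp π d.surj)
  let u : A →* (Module.End ℂ (Fin n → ℂ))ˣ := MonoidHom.toHomUnits ρ
  have hs : Function.Surjective (π.prodMap d.p) := d.surj.prodMap d.p_surj
  obtain ⟨j', hj⟩ := exists_fac (π.prodMap d.p) hs (u.comp j) fun z hz => by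
    obtain ⟨x, y⟩ := z
    have h4 : π x = 1 := congrArg Prod.fst hz
    have h5 : d.p y = 1 := congrArg Prod.snd hz
    have h6 : ρ.character (j (x, y)) = ρ.character 1 := by
      rw [← map_one j, ← Prod.mk_one_one, h1, h1, ← (om_spec d c h).2, ← (om_spec d c h).2, h5, map_one]
      simp only [Function.comp, h4, map_one]
    have h7 : ρ (j (x, y)) = LinearMap.id := by
      rw [← Characters.Values.character_eq_finrank_iff, h6]
      simp
    exact Units.ext h7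
  have hj' : ∀ x y, j' (π x, d.p y) = u (j (x, y)) := fun x y => hj (x, y)
  let L : St Λ θ →* St Λ' (θ ∘ π) := MonoidHom.mk'
    (fun α => ⟨(d.L ⟨α.1, α.2.1⟩).1, (d.L ⟨α.1, α.2.1⟩).2, fun x => by
      simp only [Function.comp, d.L_spec]
      exact α.2.2 _⟩)
    fun α β => Subtype.ext (congrArg (fun γ : Λ' => γ.1) (map_mul d.L ⟨α.1, α.2.1⟩ ⟨β.1, β.2.1⟩))
  refine ⟨(Module.End ℂ (Fin n → ℂ))ˣ, inferInstance, j', u.comp (t.comp L),
    Representation.character (Units.coeHom _ : Representation ℂ (Module.End ℂ (Fin n → ℂ))ˣ (Fin n → ℂ)),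
    ⟨n, _, rfl⟩, fun x y => ?_, fun α x y y' e => ?_, fun y hy => ?_⟩
  · obtain ⟨x, rfl⟩ := d.surj x
    obtain ⟨y, rfl⟩ := d.p_surj y
    rw [hj', (om_spec d c h).2]
    exact h1 x y
  · obtain ⟨x, rfl⟩ := d.surj x
    obtain ⟨y, rfl⟩ := d.p_surj y
    have h4 : y' = d.p (rs Λ' (d.L ⟨α.1, α.2.1⟩) y) := by
      rw [d.p_rs]
      exact Subtype.ext e
    have h5 : α.1 (π x) = π ((L α).1 x) := (d.L_spec ⟨α.1, α.2.1⟩ x).symm
    rw [h4, h5, hj', hj']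
    change u (t (L α)) * _ = _ * u (t (L α))
    rw [← map_mul, ← map_mul, h2 (L α) x y (rs Λ' (d.L ⟨α.1, α.2.1⟩) y) rfl]
  · obtain ⟨y, rfl⟩ := d.p_surj y
    have h4 : (L ⟨_, hy⟩).1 = MulAut.conj (y : X') := d.uniq fun x => by
      refine (d.L_spec ⟨_, hy.1⟩ x).trans ?_
      simp only [MulAut.conj_apply, map_mul, map_inv, Dt.p_coe]
    have h5 : MulAut.conj (y : X') ∈ St Λ' (θ ∘ π) := h4 ▸ (L ⟨_, hy⟩).2
    have h6 : L ⟨_, hy⟩ = ⟨_, h5⟩ := Subtype.ext h4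
    change u (t (L ⟨_, hy⟩)) = j' (π y, d.p y)
    rw [h6, h3, hj']

theorem cd (l : X → ℂ) : CD p Λ l (d.om Ω) := by
  refine ⟨⟨fun θ h => ⟨(om_spec d c h.1).1, fun z hz => ?_, fun α hα y => ?_⟩,
    fun θ h θ' h' e => om_inj d c h.1 h'.1 e, fun ψ h => ?_⟩, fun θ h => om_eqv d c h.1, fun θ h => om_ext d c h.1⟩
  · have h1 := om_cen d c h.1 z hz
    rw [h.2.1 z hz, mul_right_comm] at h1
    exact (mul_right_cancel₀ h.1.one_ne h1).symm
  · obtain ⟨k, hk⟩ := hα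
    rw [← om_eqv d c h.1]
    congr 1
    exact funext (h.2.2 α.1 α.2 ⟨k, congrArg Subtype.val hk⟩)
  · obtain ⟨θ, hθ, rfl⟩ := om_surj d c h.1
    refine ⟨θ, ⟨hθ, fun z hz => ?_, fun α hα ⟨k, hk⟩ => ?_⟩, rfl⟩
    · have h1 := om_cen d c hθ ⟨z, cen_mem Λ hz⟩ hz
      rw [h.2.1 ⟨z, cen_mem Λ hz⟩ hz, mul_right_comm] at h1
      exact mul_right_cancel₀ h.1.one_ne h1
    · refine congrFun (om_inj d c (oi_aut d hθ α) hθ (funext fun y => ?_))
      exact (om_eqv d c hθ ⟨α, hα⟩ y).trans (h.2.2 ⟨α, hα⟩ ⟨k, Subtype.ext hk⟩ y)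

end Desc

/-- **descent to a central quotient and to a subgroup** -/
theorem descBox (p : ℕ) : DescBox p := fun π hs hk hp Λ' Ω c Λ hl hi l =>
  ⟨_, Desc.cd (π := π) (Λ' := Λ') (Λ := Λ) (Ω := Ω) ⟨hs, hk, hp, hl, hi⟩ c l⟩

section fin

variable {p : ℕ} [Fact p.Prime] {X' X : Type} [Group X'] [Group X]

theorem mem_of_pow_mem {G : Type} [Group G] [Finite G] (Q : Sylow p G) {g : G} (hg : g ∈ normalizer ((Q : Subgroup G) : Set G)) {k : ℕ}
    (hk : g ^ p ^ k ∈ (Q : Subgroup G)) : g ∈ (Q : Subgroup G) := by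
  obtain ⟨l, hl⟩ := Q.isPGroup' ⟨_, hk⟩
  have h1 : g ^ p ^ (k + l) = 1 := by
    rw [pow_add, pow_mul]
    exact congrArg Subtype.val hl
  have h2 : IsPGroup p (zpowers g) := by
    obtain ⟨j, -, hj⟩ := (Nat.dvd_prime_pow (Fact.out : p.Prime)).1 (orderOf_dvd_of_pow_eq_one h1)
    exact IsPGroup.of_card (n := j) (by rw [Nat.card_zpowers, hj])
  have h3 := IsPGroup.to_sup_of_normal_left' Q.isPGroup' h2 (zpowers_le.2 hg)
  have h4 := Q.is_maximal' h3 le_sup_left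
  rw [← h4]
  exact mem_sup_right (mem_zpowers g)

theorem mem_of_pp [Finite X'] {π : X' →* X} (hk : π.ker ≤ center X') (U : Sylow p X') {x u : X'}
    (hx : ∃ n : ℕ, x ^ p ^ n = 1) (hu : u ∈ (U : Subgroup X')) (h : π u = π x) : x ∈ (U : Subgroup X') := by
  obtain ⟨n, hn⟩ := hx
  obtain ⟨m, hm⟩ := U.isPGroup' ⟨u, hu⟩
  have hm' : u ^ p ^ m = 1 := congrArg Subtype.val hm
  have h1 : u⁻¹ * x ∈ center X' := hk (by rw [MonoidHom.mem_ker, map_mul, map_inv, h, inv_mul_cancel])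
  have h2 : (u * (u⁻¹ * x)) ^ p ^ (m + n) = 1 := by
    rw [mul_inv_cancel_left, pow_add, mul_comm, pow_mul, hn, one_pow]
  rw [Commute.mul_pow (mem_center_iff.1 h1 u), pow_add p m, pow_mul u, hm', one_pow, one_mul, ← pow_add] at h2
  have h3 := mem_of_pow_mem U (center_le_normalizer _ h1) (k := m + n) (by rw [h2]; exact one_mem _)
  simpa using mul_mem hu h3

theorem nm_iff [Finite X'] {π : X' →* X} (hk : π.ker ≤ center X') (U : Sylow p X')
    {γ : MulAut X} {γ' : MulAut X'} (h : ∀ x, π (γ' x) = γ (π x)) :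
    (∀ x, γ' x ∈ (U : Subgroup X') ↔ x ∈ (U : Subgroup X')) ↔
      ∀ x, γ x ∈ (U : Subgroup X').map π ↔ x ∈ (U : Subgroup X').map π := by
  have h0 : ∀ {u : X'}, u ∈ (U : Subgroup X') → ∃ n : ℕ, u ^ p ^ n = 1 := fun hu =>
    (U.isPGroup' ⟨_, hu⟩).imp fun _ hn => congrArg Subtype.val hn
  refine ⟨fun h1 x => ⟨?_, ?_⟩, fun h1 x => ⟨fun hx => ?_, fun hx => ?_⟩⟩
  · rintro ⟨u, hu, h2⟩
    obtain ⟨u, rfl⟩ := γ'.surjective u
    exact ⟨u, (h1 u).1 hu, γ.injective ((h u).symm.trans h2)⟩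
  · rintro ⟨u, hu, rfl⟩
    exact ⟨_, (h1 u).2 hu, h u⟩
  · obtain ⟨u, hu, h2⟩ := (h1 (π x)).1 ⟨_, hx, h x⟩
    exact mem_of_pp hk U ((h0 hx).imp fun n hn => γ'.injective (by rw [map_pow, hn, map_one])) hu h2
  · obtain ⟨u, hu, h2⟩ := (h1 (π x)).2 ⟨_, hx, rfl⟩
    exact mem_of_pp hk U ((h0 hx).imp fun n hn => by rw [← map_pow, hn, map_one]) hu (h2.trans (h x).symm)

/-- **from the cover to the group** -/
theorem gdA_of [Finite X'] [Finite X] (hC : StepC p) (hD : DescBox p) {π : X' →* X} (hs : Function.Surjective π)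
    (hk : π.ker ≤ center X') (hp : commutator X' = ⊤) (U : Sylow p X')
    (hl : ∀ γ : MulAut X, ∃ γ' : MulAut X', ∀ x, π (γ' x) = γ (π x)) {Ω : (X' → ℂ) → In (Nm ⊤ (U : Subgroup X')) → ℂ}
    (hΩ : CF p (Nm ⊤ (U : Subgroup X')) Ω) : GdA p X := by
  intro Γ s
  refine ⟨Nm Γ (U.mapSurjective hs : Sylow p X), U.mapSurjective hs, fun _ h => h.1, E.nm_ne s _, le_rfl,
    hC X Γ _ s (E.supp_nm s.inn _) fun l _ => hD π hs hk hp _ Ω hΩ _ (fun γ hγ => ?_) (fun y => ?_) l⟩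
  · obtain ⟨γ', h⟩ := hl γ
    exact ⟨γ', ⟨mem_top _, (nm_iff hk U h).2 hγ.2⟩, h⟩
  · have h := nm_iff hk U (γ := MulAut.conj (π y)) (γ' := MulAut.conj y) fun x => by simp
    exact ⟨fun hy => ⟨s.inn _, h.1 hy.2⟩, fun hy => ⟨mem_top _, h.2 hy.2⟩⟩

end fin

end Cfsg.Agent.MO.Df
end

private theorem dce_6565de2f8641 : _root_.True := by
  try have : _root_.True := by simp only [_root_.Cfsg.Agent.MO.Df.Ps.eq_1]
  exact _root_.True.intro
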